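import Groth.Prelude.Def_Dix
import Groth.Agent.CurvesA.SubSheafEt
import Groth.Agent.EtpbcA.StalkTools
import Groth.Agent.Sga4B.FinExact
import Mathlib.CategoryTheory.Abelian.GrothendieckAxioms.Basic

/-!
# ℓ-primary torsion étale sheaves as filtered colimits of sheaves killed by a power of ℓ

* `K582.PrimColim.exists_iso`: an abelian étale sheaf every section of which is, étale-locally around every point, killed
  by a power of `ℓ` is the colimit of its subsheaves `F[ℓ^k]`;
* `K582.PrimColim.main`: the dévissage `Groth.Agent.Sga4B.Dev65.main` for all ℓ-primary torsion sheaves (no bound on the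
  exponents; in particular no use of sections over infinite disjoint unions).
-/

set_option autoImplicit false
universe u

open CategoryTheory CategoryTheory.Limits AlgebraicGeometry Opposite CategoryTheory.Abelian

namespace K582.PrimColim

open Groth.Agent Groth.Agent.CurvesA.SubSheafEt Groth.Agent.Sga4B

variable {X : Scheme.{u}} (ℓ : ℕ) (F : EtCoh.Ab X)

/-- The sections killed by `ℓ ^ k`. -/
noncomputable def powData (k : ℕ) : SubData F where
  P U := (nsmulAddMonoidHom (α := EtCoh.sect F U) (ℓ ^ k)).ker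
  res {U V} f s hs := by
    have h1 : (ℓ ^ k) • s = 0 := hs
    change (ℓ ^ k) • F.obj.map f.op s = 0
    rw [← map_nsmul, h1, map_zero]
  loc U s h := by
    change (ℓ ^ k) • s = 0
    refine Etbase.EtSite.sect_eq_zero F U _ fun x => ?_
    obtain ⟨V, f, v, hv, hs⟩ := h x
    refine ⟨V, f, v, hv, ?_⟩
    rw [map_nsmul]
    exact hs

theorem mem_powData {k : ℕ} {U : X.Etale} {s : EtCoh.sect F U} : s ∈ (powData ℓ F k).P U ↔ (ℓ ^ k) • s = 0 :=
  Iff.rfl

/-- The system of the subsheaves `F[ℓ^k]`. -/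
noncomputable def sys : ULift.{u + 1} ℕ ⥤ EtCoh.Ab X where
  obj T := sub (powData ℓ F T.down)
  map {T T'} h := incl fun U s hs => by
    have h1 : (ℓ ^ T.down) • s = 0 := hs
    have h2 : T ≤ T' := leOfHom h
    obtain ⟨c, hc⟩ := Nat.exists_eq_add_of_le (show T.down ≤ T'.down from h2)
    change (ℓ ^ T'.down) • s = 0
    rw [hc, pow_add, mul_comm, mul_smul, h1, smul_zero]
  map_id T := by
    apply Sheaf.hom_ext
    ext U s
    rfl
  map_comp f g := by
    apply Sheaf.hom_ext
    ext U s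
    rfl

/-- The inclusions of the system into `F`. -/
noncomputable def sysι : sys ℓ F ⟶ (Functor.const (ULift.{u + 1} ℕ)).obj F where
  app T := ι (powData ℓ F T.down)
  naturality T T' h := by
    apply Sheaf.hom_ext
    ext U s
    rfl

instance : IsFiltered (ULift.{u + 1} ℕ) := inferInstance

instance : HasExactColimitsOfShape (ULift.{u + 1} ℕ) (EtCoh.Ab X) :=
  AB5OfSize.ofShape (ULift.{u + 1} ℕ)

instance : IsConnected (ULift.{u + 1} ℕ) := IsFiltered.isConnected (ULift.{u + 1} ℕ)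

/-- The colimit of the constant diagram. -/
noncomputable def constIso : colimit ((Functor.const (ULift.{u + 1} ℕ)).obj F) ≅ F :=
  (colimit.isColimit ((Functor.const (ULift.{u + 1} ℕ)).obj F)).coconePointUniqueUpToIso
    (isColimitConstCocone (ULift.{u + 1} ℕ) F)

theorem ι_constIso (T : ULift.{u + 1} ℕ) :
    colimit.ι ((Functor.const (ULift.{u + 1} ℕ)).obj F) T ≫ (constIso F).hom = 𝟙 F :=
  (colimit.isColimit ((Functor.const (ULift.{u + 1} ℕ)).obj F)).comp_coconePointUniqueUpToIso_hom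
    (isColimitConstCocone (ULift.{u + 1} ℕ) F) T

/-- The comparison map. -/
noncomputable def cmp : colimit (sys ℓ F) ⟶ F :=
  colimMap (sysι ℓ F) ≫ (constIso F).hom

theorem ι_cmp (T : ULift.{u + 1} ℕ) :
    colimit.ι (sys ℓ F) T ≫ cmp ℓ F = ι (powData ℓ F T.down) := by
  unfold cmp
  rw [ι_colimMap_assoc, ι_constIso]
  exact Category.comp_id _

instance mono_cmp : Mono (cmp ℓ F) := by
  have h : ∀ T, Mono ((sysι ℓ F).app T) := fun T =>
    inferInstanceAs (Mono (ι (powData ℓ F T.down)))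
  have : Mono (sysι ℓ F) := NatTrans.mono_of_mono_app _
  have h2 : Mono (colim.map (sysι ℓ F)) := inferInstance
  have h3 : Mono (colimMap (sysι ℓ F)) := h2
  unfold cmp
  exact mono_comp _ _

theorem epi_cmp (hF : _root_.Dix.IsPrimaryTorsion ℓ F) : Epi (cmp ℓ F) := by
  rw [EtpbcA.StalkTools.epi_iff_locIm]
  intro U s x
  obtain ⟨V, g, ⟨v, hv⟩, k, hk⟩ := hF U s x
  let s' : EtCoh.sect (sub (powData ℓ F k)) V := (⟨F.obj.map g.op s, hk⟩ : (powData ℓ F k).P V)
  refine ⟨V, g, v, hv, (colimit.ι (sys ℓ F) ⟨k⟩).hom.app (op V) s', ?_⟩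
  have h1 := congrArg (fun (m : (sys ℓ F).obj ⟨k⟩ ⟶ F) => m.hom.app (op V) s') (ι_cmp ℓ F ⟨k⟩)
  exact h1

/-- An ℓ-primary torsion sheaf is the filtered colimit of the subsheaves killed by `ℓ ^ k`. -/
theorem exists_iso (hF : _root_.Dix.IsPrimaryTorsion ℓ F) : Nonempty (colimit (sys ℓ F) ≅ F) := by
  have := epi_cmp ℓ F hF
  have : IsIso (cmp ℓ F) := isIso_of_mono_of_epi _
  exact ⟨asIso (cmp ℓ F)⟩

theorem killedBy_sys (T : ULift.{u + 1} ℕ) : EtCoh.KilledBy (ℓ ^ T.down) ((sys ℓ F).obj T) := by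
  intro U s
  apply Subtype.ext
  exact s.2

section Main

variable {Y : Scheme.{u}} {h : Y ⟶ X} {n : ℕ}

attribute [local instance 3000] Dev65.hasSheafify Dev65.hasExt
attribute [local instance] Dev65.exactPull

variable {ℓ}

/-- The dévissage for ℓ-primary torsion sheaves. -/
theorem main [CompactSpace X] [QuasiSeparatedSpace X] [CompactSpace Y] [QuasiSeparatedSpace Y]
    (hl : ℓ.Prime) (hfin : Dev65.FinExact.{u}) (hcol : Dev65.ColimCoh.{u}) (hb : Dev65.HypB h ℓ n)
    (F : EtCoh.Ab X) (hF : _root_.Dix.IsPrimaryTorsion ℓ F) :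
      (∀ q ≤ n, Function.Bijective (ExtCmp.cmp (EtCoh.pull h) (EtCore.pullConst h ℤ).inv F q)) ∧
      Function.Injective (ExtCmp.cmp (EtCoh.pull h) (EtCore.pullConst h ℤ).inv F (n + 1)) := by
  obtain ⟨e⟩ := exists_iso ℓ F hF
  have h1 : ∀ T : ULift.{u + 1} ℕ,
      (∀ q ≤ n, Function.Bijective (ExtCmp.cmp (EtCoh.pull h) (EtCore.pullConst h ℤ).inv ((sys ℓ F).obj T) q)) ∧
      Function.Injective (ExtCmp.cmp (EtCoh.pull h) (EtCore.pullConst h ℤ).inv ((sys ℓ F).obj T) (n + 1)) :=
    fun T => Dev65.main hl hfin hcol hb _ ⟨T.down, (TorsionFree.killedBy_iff _ _).1 (killedBy_sys ℓ F T)⟩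
  have hc := colimit.isColimit (sys ℓ F)
  refine ⟨fun q hq => ⟨?_, ?_⟩, ?_⟩
  · have := hcol X q (ULift.{u + 1} ℕ)
    have := hcol Y q (ULift.{u + 1} ℕ)
    exact ExtCmp.injective_of_iso (EtCoh.pull h) _ e q
      (Dev65.injective_colim h hc q fun T => ((h1 T).1 q hq).1)
  · have := hcol X q (ULift.{u + 1} ℕ)
    have := hcol Y q (ULift.{u + 1} ℕ)
    exact ExtCmp.surjective_of_iso (EtCoh.pull h) _ e q
      (Dev65.surjective_colim h hc q fun T => ((h1 T).1 q hq).2)
  · have := hcol X (n + 1) (ULift.{u + 1} ℕ)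
    have := hcol Y (n + 1) (ULift.{u + 1} ℕ)
    exact ExtCmp.injective_of_iso (EtCoh.pull h) _ e (n + 1)
      (Dev65.injective_colim h hc (n + 1) fun T => (h1 T).2)

end Main

end K582.PrimColim
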